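import Cfsg.Agent.MinNormal.Factors
import Cfsg.Agent.FrobComp.Malnormal
import Cfsg.Agent.S0205
import Cfsg.Agent.S0035

/-!
Linear groups in which the stabiliser of every non-trivial vector is maximal (extremely primitive affine groups):
an insoluble one over two elements is almost simple. The odd order theorem supplies the involutions.
-/

set_option autoImplicit false

namespace CfsgLib.ExtremelyPrimitive57

open CfsgLib.MinNormal
open scoped Pointwise

variable {H : Type*} [Group H] [Finite H] {V : Type*} [CommGroup V] [Finite V] [MulDistribMulAction H V]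

/-- The hypotheses: stabilisers of non-trivial vectors are maximal and core-free, involutions fix vectors, abelian
subgroups without fixed vectors are cyclic. -/
structure Setting (H : Type*) [Group H] [Finite H] (V : Type*) [CommGroup V] [Finite V] [MulDistribMulAction H V] :
    Prop where
  max : ∀ v : V, v ≠ 1 → IsCoatom (MulAction.stabilizer H v)
  core : ∀ (K : Subgroup H), K.Normal → ∀ v : V, v ≠ 1 → K ≤ MulAction.stabilizer H v → K = ⊥
  fixed : ∀ t : H, t * t = 1 → ∃ v : V, v ≠ 1 ∧ t • v = v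
  cyclic : ∀ A : Subgroup H, IsMulCommutative A → (∀ a ∈ A, a ≠ 1 → ∀ v : V, a • v = v → v = 1) → IsCyclic A

/-- A normal subgroup centralised by a normal subgroup outside the stabiliser acts semiregularly. -/
theorem inf_eq_bot (S : Setting H V) {K B : Subgroup H} [hK : K.Normal] [hB : B.Normal] (hB0 : B ≠ ⊥)
    (hcomm : ∀ b ∈ B, ∀ k ∈ K, b * k = k * b) {v : V} (hv : v ≠ 1) :
    K ⊓ MulAction.stabilizer H v = ⊥ := by
  set M := MulAction.stabilizer H v with hM
  have hBM : ¬ B ≤ M := fun h => hB0 (S.core B hB v hv h)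
  have htop : M ⊔ B = ⊤ := (S.max v hv).2 _ (lt_of_le_of_ne le_sup_left fun h => hBM (le_sup_right.trans h.ge))
  have hn : (K ⊓ M).Normal := by
    refine ⟨fun x hx g => ?_⟩
    have hg : g ∈ M ⊔ B := by rw [htop]; trivial
    obtain ⟨y, hy, b, hb, rfl⟩ := Subgroup.mem_sup_of_normal_right.1 hg
    have e : y * b * x * (y * b)⁻¹ = y * x * y⁻¹ := by
      rw [mul_assoc y b x, hcomm b hb x hx.1]
      group
    rw [e]
    exact ⟨hK.conj_mem x hx.1 y, M.mul_mem (M.mul_mem hy hx.2) (M.inv_mem hy)⟩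
  exact S.core _ hn v hv inf_le_right

/-- An insoluble group has no non-trivial abelian normal subgroup. -/
theorem eq_bot_of_comm (S : Setting H V) (hns : ¬ Group.IsSolvable H) {v₀ : V} (hv₀ : v₀ ≠ 1)
    (K : Subgroup H) [hK : K.Normal] [hKc : IsMulCommutative K] : K = ⊥ := by
  by_contra h0
  have hcomm : ∀ b ∈ K, ∀ k ∈ K, b * k = k * b := fun b hb k hk =>
    congrArg Subtype.val (mul_comm' (⟨b, hb⟩ : K) ⟨k, hk⟩)
  haveI hcyc : IsCyclic K := by
    refine S.cyclic K hKc fun a ha ha1 v hav => ?_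
    by_contra hv
    exact ha1 (Subgroup.mem_bot.1 (inf_eq_bot S h0 hcomm hv ▸
      (⟨ha, MulAction.mem_stabilizer_iff.2 hav⟩ : a ∈ K ⊓ MulAction.stabilizer H v)))
  set C := Subgroup.centralizer (K : Set H) with hC
  haveI : C.Normal := hC ▸ inferInstance
  have hKC : K ≤ C := fun k hk => Subgroup.mem_centralizer_iff.2 fun b hb => hcomm b hb k hk
  have hCK : C ≤ K := by
    intro c hc
    have hnK : ¬ K ≤ MulAction.stabilizer H v₀ := fun h => h0 (S.core K hK v₀ hv₀ h)
    have htop : MulAction.stabilizer H v₀ ⊔ K = ⊤ :=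
      (S.max v₀ hv₀).2 _ (lt_of_le_of_ne le_sup_left fun h => hnK (le_sup_right.trans h.ge))
    obtain ⟨y, hy, k, hk, rfl⟩ := Subgroup.mem_sup_of_normal_right.1
      (show c ∈ MulAction.stabilizer H v₀ ⊔ K by rw [htop]; trivial)
    have hyC : y ∈ C ⊓ MulAction.stabilizer H v₀ :=
      ⟨by simpa using C.mul_mem hc (C.inv_mem (hKC hk)), hy⟩
    rw [inf_eq_bot S h0 (fun b hb c hc => Subgroup.mem_centralizer_iff.1 hc b hb) hv₀, Subgroup.mem_bot] at hyC
    rw [hyC, one_mul]
    exact hk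
  refine hns ?_
  have hcl : ∀ x y : H, x * y * x⁻¹ * y⁻¹ ∈ K := fun x y => hCK (Subgroup.mem_centralizer_iff.2 fun b hb => by
    obtain ⟨g, hg⟩ := IsCyclic.exists_generator (α := K)
    have hpow : ∀ z : H, ∃ n : ℤ, ∀ k ∈ K, z * k * z⁻¹ = k ^ n := by
      intro z
      obtain ⟨n, hn⟩ := Subgroup.mem_zpowers_iff.1 (hg ⟨z * (g : H) * z⁻¹, hK.conj_mem _ g.2 z⟩)
      refine ⟨n, fun k hk => ?_⟩
      obtain ⟨i, hi⟩ := Subgroup.mem_zpowers_iff.1 (hg ⟨k, hk⟩)
      have hn' : (g : H) ^ n = z * (g : H) * z⁻¹ := congrArg Subtype.val hn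
      have hi' : (g : H) ^ i = k := congrArg Subtype.val hi
      rw [← hi', ← conj_zpow, ← hn', ← zpow_mul, ← zpow_mul, mul_comm]
    obtain ⟨n, hn⟩ := hpow x
    obtain ⟨l, hl⟩ := hpow y
    have h2 : x * (y * b * y⁻¹) * x⁻¹ = y * (x * b * x⁻¹) * y⁻¹ := by
      rw [hn _ (hK.conj_mem b hb y), hl b hb, hl _ (hK.conj_mem b hb x), hn b hb, ← zpow_mul, ← zpow_mul, mul_comm]
    have hb' : (b : H) = y * x * y⁻¹ * x⁻¹ * b * (y * x * y⁻¹ * x⁻¹)⁻¹ := by
      have := hn _ (hK.conj_mem b hb (x⁻¹))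
      calc (b : H) = y * (x * (x⁻¹ * (y⁻¹ * b * y) * x) * x⁻¹) * y⁻¹ := by group
        _ = y * (x * (y⁻¹ * (x⁻¹ * b * x) * y) * x⁻¹) * y⁻¹ := by
          congr 3
          obtain ⟨n', hn'⟩ := hpow x⁻¹
          obtain ⟨l', hl'⟩ := hpow y⁻¹
          have e1 : ∀ k ∈ K, x⁻¹ * k * x = k ^ n' := fun k hk => by simpa using hn' k hk
          have e2 : ∀ k ∈ K, y⁻¹ * k * y = k ^ l' := fun k hk => by simpa using hl' k hk
          have m1 : x⁻¹ * b * x ∈ K := by simpa using hK.conj_mem b hb x⁻¹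
          have m2 : y⁻¹ * b * y ∈ K := by simpa using hK.conj_mem b hb y⁻¹
          rw [e1 _ m2, e2 b hb, e2 _ m1, e1 b hb, ← zpow_mul, ← zpow_mul, mul_comm]
        _ = _ := by group
    calc b * (x * y * x⁻¹ * y⁻¹) = x * y * x⁻¹ * y⁻¹ * (y * x * y⁻¹ * x⁻¹ * b * (y * x * y⁻¹ * x⁻¹)⁻¹) := by group
      _ = x * y * x⁻¹ * y⁻¹ * b := by rw [← hb'])
  haveI : Group.IsSolvable K :=
    Group.isSolvable_of_comm fun a b : K => mul_comm' a b
  haveI : Group.IsSolvable (H ⧸ K) := Group.isSolvable_of_comm fun a b => by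
    induction a using QuotientGroup.induction_on with
    | H a =>
    induction b using QuotientGroup.induction_on with
    | H b =>
      rw [← QuotientGroup.mk_mul, ← QuotientGroup.mk_mul, QuotientGroup.eq]
      have := hcl b⁻¹ a⁻¹
      simpa [mul_assoc] using this
  exact Group.isSolvable_of_ker_le_range K.subtype (QuotientGroup.mk' K) (by simp)

/-- A non-abelian simple group has an involution. -/
theorem exists_involution {T : Type*} [Group T] [Finite T] [IsSimpleGroup T] (h : ¬ IsMulCommutative T) :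
    ∃ a : T, a ≠ 1 ∧ a * a = 1 := by
  have heven : ¬ Odd (Nat.card T) := fun hodd => h
    ⟨⟨IsSimpleGroup.comm_iff_isSolvable.2 (Cfsg.Agent.S0205.result hodd)⟩⟩
  haveI := Fact.mk Nat.prime_two
  obtain ⟨a, ha⟩ := exists_prime_orderOf_dvd_card' (G := T) 2 (even_iff_two_dvd.1 (Nat.not_odd_iff_even.1 heven))
  refine ⟨a, fun e => by rw [e, orderOf_one] at ha; omega, ?_⟩
  rw [← sq, ← ha]
  exact pow_orderOf_eq_one a

/-- A non-trivial proper subgroup of a simple group meets one of its other conjugates. -/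
theorem exists_conj_meet {T : Type*} [Group T] [Finite T] [IsSimpleGroup T] {R : Subgroup T} (h0 : R ≠ ⊥)
    (h1 : R ≠ ⊤) : ∃ g ∉ R, ∃ d ∈ R, d ≠ 1 ∧ g⁻¹ * d * g ∈ R := by
  by_contra hall
  push Not at hall
  have hF : Cfsg.IsFrobeniusComplement R := ⟨h0, h1, fun g hg => by
    rw [Subgroup.eq_bot_iff_forall]
    rintro d ⟨hd, hd'⟩
    by_contra hd1
    exact hall g hg d hd hd1 ((CfsgLib.FrobComp.smul_mem_iff R g d).1 hd')⟩
  obtain ⟨N, -, hN, hc⟩ := Cfsg.Agent.S0035.result R hF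
  rcases hN.eq_bot_or_eq_top with rfl | rfl
  · exact h1 (Subgroup.isComplement'_bot_left.1 hc)
  · exact h0 (Subgroup.isComplement'_top_left.1 hc)

/-- The conjugate of a subgroup. -/
abbrev cj (W : Subgroup H) (g : H) : Subgroup H := W.map (MulAut.conj g).toMonoidHom

omit [Finite H] in
theorem mem_cj {W : Subgroup H} {g x : H} : x ∈ cj W g ↔ g⁻¹ * x * g ∈ W := by
  constructor
  · rintro ⟨w, hw, rfl⟩
    simpa [mul_assoc] using hw
  · exact fun h => ⟨_, h, by simp [mul_assoc]⟩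

variable {K : Subgroup H}

theorem exists_conj_factor (hK : IsMinNormal K) (hnc : ¬ IsMulCommutative K) {T W : Subgroup H}
    (hT : IsFactor K T) (hW : IsFactor K W) : ∃ g : H, W = cj T g := by
  by_contra hall
  push Not at hall
  refine hW.ne_bot ((Subgroup.eq_bot_iff_forall _).2 fun w hw =>
    eq_one_of_commute_all hK hnc (hW.le hw) fun m hm => ?_)
  rw [← iSup_factor_eq hK hT] at hm
  induction hm using Subgroup.iSup_induction' with
  | hp g z hz => exact hW.commute (hT.conj hK g) (hall g) hw hz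
  | h1 => exact Commute.one_right w
  | hmul y z _ _ hy hz => exact hy.mul_right hz

theorem exists_conj_stab (S : Setting H V) (hK : IsMinNormal K) (hnc : ¬ IsMulCommutative K) {T W : Subgroup H}
    (hT : IsFactor K T) (hW : IsFactor K W) {v : V} (hv : v ≠ 1) :
    ∃ m ∈ MulAction.stabilizer H v, W = cj T m := by
  haveI := hK.normal
  obtain ⟨g, rfl⟩ := exists_conj_factor hK hnc hT hW
  have hKM : ¬ K ≤ MulAction.stabilizer H v := fun h => hK.ne_bot (S.core K hK.normal v hv h)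
  have htop : MulAction.stabilizer H v ⊔ K = ⊤ :=
    (S.max v hv).2 _ (lt_of_le_of_ne le_sup_left fun h => hKM (le_sup_right.trans h.ge))
  obtain ⟨y, hy, k, hk, rfl⟩ := Subgroup.mem_sup_of_normal_right.1
    (show g ∈ MulAction.stabilizer H v ⊔ K by rw [htop]; trivial)
  refine ⟨y, hy, ?_⟩
  ext x
  rw [mem_cj, mem_cj, Subgroup.mem_normalizer_iff.1 (hT.normal hk) ((y * k)⁻¹ * x * (y * k))]
  group

/-- The part of a factor that fixes a vector. -/
abbrev fixPart (W : Subgroup H) (v : V) : Subgroup H := W ⊓ MulAction.stabilizer H v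

omit [Finite H] [Finite V] in
theorem fixPart_cj (W : Subgroup H) {v : V} {m : H} (hm : m ∈ MulAction.stabilizer H v) :
    fixPart (cj W m) v = cj (fixPart W v) m := by
  ext x
  simp only [fixPart, Subgroup.mem_inf, mem_cj]
  refine and_congr_right fun _ => ⟨fun hx => Subgroup.mul_mem _ (Subgroup.mul_mem _ (Subgroup.inv_mem _ hm) hx) hm,
    fun hx => ?_⟩
  have := Subgroup.mul_mem _ (Subgroup.mul_mem _ hm hx) (Subgroup.inv_mem _ hm)
  simpa [mul_assoc] using this

theorem fixPart_card (S : Setting H V) (hK : IsMinNormal K) (hnc : ¬ IsMulCommutative K) {T W : Subgroup H}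
    (hT : IsFactor K T) (hW : IsFactor K W) {v : V} (hv : v ≠ 1) :
    Nat.card (fixPart W v) = Nat.card (fixPart T v) ∧ (fixPart T v ≠ ⊥ → fixPart W v ≠ ⊥) ∧
      ((∃ a ∈ fixPart T v, a ≠ 1 ∧ a * a = 1) → ∃ a ∈ fixPart W v, a ≠ 1 ∧ a * a = 1) := by
  obtain ⟨m, hm, rfl⟩ := exists_conj_stab S hK hnc hT hW hv
  rw [fixPart_cj T hm]
  refine ⟨Subgroup.card_map_of_injective (MulAut.conj m).injective, fun h0 h1 =>
    h0 ((Subgroup.map_eq_bot_iff_of_injective _ (MulAut.conj m).injective).1 h1), ?_⟩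
  rintro ⟨a, ha, ha1, ha2⟩
  refine ⟨MulAut.conj m a, ⟨a, ha, rfl⟩, fun e => ha1 ((MulEquiv.map_eq_one_iff _).1 e), ?_⟩
  rw [← map_mul, ha2, map_one]

theorem fixPart_ne_self (S : Setting H V) (hK : IsMinNormal K) (hnc : ¬ IsMulCommutative K) {T : Subgroup H}
    (hT : IsFactor K T) {v : V} (hv : v ≠ 1) : fixPart T v ≠ T := by
  intro h
  refine hK.ne_bot (S.core K hK.normal v hv ?_)
  rw [← iSup_factor_eq hK hT]
  refine iSup_le fun g => ?_
  obtain ⟨m, hm, hg⟩ := exists_conj_stab S hK hnc hT (hT.conj hK g) hv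
  rw [hg]
  intro x hx
  have h1 : m⁻¹ * x * m ∈ MulAction.stabilizer H v := (h.ge (mem_cj.1 hx)).2
  have := Subgroup.mul_mem _ (Subgroup.mul_mem _ hm h1) (Subgroup.inv_mem _ hm)
  simpa [mul_assoc] using this

/-- A non-trivial fixed part is self-normalising in its factor. -/
theorem fixPart_selfNormalising (S : Setting H V) (hK : IsMinNormal K) (hnc : ¬ IsMulCommutative K)
    {T : Subgroup H} (hT : IsFactor K T) {v : V} (hv : v ≠ 1) (h0 : fixPart T v ≠ ⊥) {t : H} (ht : t ∈ T)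
    (hn : ∀ x ∈ fixPart T v, t * x * t⁻¹ ∈ fixPart T v) : t ∈ fixPart T v := by
  haveI := hK.normal
  set M := MulAction.stabilizer H v with hM
  let L : Subgroup H := K ⊓ ⨅ W : {W : Subgroup H // IsFactor K W},
    Subgroup.normalizer ((fixPart W.1 v : Subgroup H) : Set H)
  have hmap : ∀ {z : H} {X : Subgroup H}, (∀ x ∈ X, z * x * z⁻¹ ∈ X) → z ∈ Subgroup.normalizer (X : Set H) := by
    intro z X h
    have hle : cj X z ≤ X := by
      rintro _ ⟨x, hx, rfl⟩
      exact h x hx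
    have heq : cj X z = X := Subgroup.eq_of_le_of_card_ge hle
      (Subgroup.card_map_of_injective (MulAut.conj z).injective).ge
    refine Subgroup.mem_normalizer_iff.2 fun x => ⟨h x, fun hx => ?_⟩
    have h2 : z * x * z⁻¹ ∈ cj X z := heq.symm ▸ hx
    simpa [mul_assoc] using mem_cj.1 h2
  have htL : t ∈ L := by
    refine Subgroup.mem_inf.2 ⟨hT.le ht, Subgroup.mem_iInf.2 fun W => hmap fun x hx => ?_⟩
    by_cases hW : W.1 = T
    · rw [hW] at hx ⊢
      exact hn x hx
    · rw [show t * x = x * t from hT.commute W.2 (Ne.symm hW) ht hx.1, mul_inv_cancel_right]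
      exact hx
  have hML : M ≤ Subgroup.normalizer (L : Set H) := fun m hm => hmap fun l hl => by
    obtain ⟨hlK, hlW⟩ := Subgroup.mem_inf.1 hl
    refine Subgroup.mem_inf.2 ⟨hK.normal.conj_mem l hlK m, Subgroup.mem_iInf.2 fun W => hmap fun x hx => ?_⟩
    have e : fixPart (cj W.1 m⁻¹) v = cj (fixPart W.1 v) m⁻¹ := fixPart_cj W.1 (M.inv_mem hm)
    have hy : m⁻¹ * x * m ∈ fixPart (cj W.1 m⁻¹) v := by
      rw [e, mem_cj]
      simpa [mul_assoc] using hx
    have h2 := (Subgroup.mem_normalizer_iff.1 (Subgroup.mem_iInf.1 hlW ⟨_, W.2.conj hK m⁻¹⟩) _).1 hy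
    rw [e, mem_cj] at h2
    simpa [mul_assoc] using h2
  have hKM : ∀ k ∈ K, k ∈ M → k ∈ L := fun k hk hkM => Subgroup.mem_inf.2 ⟨hk, Subgroup.mem_iInf.2 fun W =>
    hmap fun x hx => ⟨conj_mem_of_le_normalizer W.2.normal hk hx.1, M.mul_mem (M.mul_mem hkM hx.2) (M.inv_mem hkM)⟩⟩
  have hLM : L ≤ M := by
    by_contra hn'
    have htop : L ⊔ M = ⊤ := (S.max v hv).2 _ (lt_of_le_of_ne le_sup_right fun h => hn' (le_sup_left.trans h.ge))
    have hKL : K ≤ L := by
      intro k hk
      have hk' : k ∈ ((L ⊔ M : Subgroup H) : Set H) := by rw [htop]; trivial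
      rw [Subgroup.coe_mul_of_right_le_normalizer_left L M hML] at hk'
      obtain ⟨l, hl, m, hm, rfl⟩ := hk'
      refine L.mul_mem hl (hKM m ?_ hm)
      simpa using K.mul_mem (K.inv_mem hl.1) hk
    rcases hT.eq_bot_or_eq hK (fixPart T v) inf_le_left (fun s hs =>
      Subgroup.mem_iInf.1 (Subgroup.mem_inf.1 (hKL (hT.le hs))).2 ⟨T, hT⟩) with h | h
    · exact h0 h
    · exact fixPart_ne_self S hK hnc hT hv h
  exact ⟨ht, hLM htL⟩

/-- The minimal normal subgroup is simple. -/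
theorem factor_eq (S : Setting H V) (hK : IsMinNormal K) (hnc : ¬ IsMulCommutative K) {T : Subgroup H}
    (hT : IsFactor K T) : T = K := by
  classical
  by_contra hne
  obtain ⟨U, hU, hUT⟩ : ∃ U, IsFactor K U ∧ U ≠ T := by
    by_contra hall
    push Not at hall
    refine hne (le_antisymm hT.le ?_)
    rw [← iSup_factor_eq hK hT]
    exact iSup_le fun g => (hall _ (hT.conj hK g)).le
  have hTna : ∀ {W : Subgroup H}, IsFactor K W → ¬ IsMulCommutative W := by
    intro W hW hc
    exact hW.ne_bot ((Subgroup.eq_bot_iff_forall _).2 fun t ht => hW.eq_one_of_commute hK hnc ht fun u hu =>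
      congrArg Subtype.val (mul_comm' (⟨t, ht⟩ : W) ⟨u, hu⟩))
  -- a vector whose fixed parts have an involution and are as large as possible
  haveI := hT.isSimpleGroup hK
  haveI := Fintype.ofFinite V
  let good : Finset V := Finset.univ.filter fun z => z ≠ 1 ∧ ∃ a ∈ fixPart T z, a ≠ 1 ∧ a * a = 1
  have hgood : good.Nonempty := by
    obtain ⟨a, ha1, ha2⟩ := exists_involution (hTna hT)
    obtain ⟨z, hz, haz⟩ := S.fixed (a : H) (congrArg Subtype.val ha2)
    exact ⟨z, Finset.mem_filter.2 ⟨Finset.mem_univ _, hz, a, ⟨a.2, MulAction.mem_stabilizer_iff.2 haz⟩,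
      fun e => ha1 (Subtype.ext e), congrArg Subtype.val ha2⟩⟩
  obtain ⟨v, hvg, hvmax⟩ := good.exists_max_image (fun z => Nat.card (fixPart T z)) hgood
  obtain ⟨hv, a, ha, ha1, ha2⟩ : v ≠ 1 ∧ ∃ a ∈ fixPart T v, a ≠ 1 ∧ a * a = 1 := by
    simpa only [good, Finset.mem_filter, Finset.mem_univ, true_and] using hvg
  obtain ⟨hUcard, -, hUinv⟩ := fixPart_card S hK hnc hT hU hv
  obtain ⟨b, hb, hb1, hb2⟩ := hUinv ⟨a, ha, ha1, ha2⟩
  have hcomm : ∀ t ∈ T, ∀ u ∈ U, t * u = u * t := fun t ht u hu => hT.commute hU (Ne.symm hUT) ht hu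
  have hfix : ∀ {x : H} {W : Subgroup H}, x ∈ fixPart W v → x • v = v := fun hx =>
    MulAction.mem_stabilizer_iff.1 hx.2
  -- no vector is fixed by the fixed part in `U` and one of its other conjugates
  have hY : ∀ h ∈ U, h ∉ fixPart U v → ∀ z : V, z ≠ 1 → (∀ u ∈ fixPart U v, u • z = z) →
      (∀ u ∈ fixPart U v, (h * u * h⁻¹) • z = z) → False := by
    intro h hh hhR z hz hz1 hz2
    have hle : fixPart U v ≤ fixPart U z := fun u hu => ⟨hu.1, MulAction.mem_stabilizer_iff.2 (hz1 u hu)⟩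
    obtain ⟨hcz, -, hiz⟩ := fixPart_card S hK hnc hU hT hz
    have hzg : z ∈ good := Finset.mem_filter.2 ⟨Finset.mem_univ _, hz, hiz ⟨b, hle hb, hb1, hb2⟩⟩
    have heq := Subgroup.eq_of_le_of_card_ge hle (by rw [← hcz, hUcard]; exact hvmax z hzg)
    refine hhR (fixPart_selfNormalising S hK hnc hU hv (fun h0 => hb1 ?_) hh fun u hu => ?_)
    · rw [h0] at hb; exact Subgroup.mem_bot.1 hb
    · rw [heq]
      exact ⟨U.mul_mem (U.mul_mem hh hu.1) (U.inv_mem hh), MulAction.mem_stabilizer_iff.2 (hz2 u hu)⟩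
  -- the two conjugating elements
  obtain ⟨g, hgR, d, hd, hd1, hdg⟩ := exists_conj_meet (R := (fixPart T v).subgroupOf T)
    (fun h => ha1 (by
      have h1 : (⟨a, ha.1⟩ : T) ∈ (fixPart T v).subgroupOf T := Subgroup.mem_subgroupOf.2 ha
      rw [h, Subgroup.mem_bot] at h1
      exact congrArg Subtype.val h1))
    (fun h => fixPart_ne_self S hK hnc hT hv (le_antisymm inf_le_left (Subgroup.subgroupOf_eq_top.1 h)))
  rw [Subgroup.mem_subgroupOf] at hgR hd hdg
  obtain ⟨h, hh, hhR, hh2⟩ : ∃ h ∈ U, h ∉ fixPart U v ∧ h * h = 1 := by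
    by_contra hall
    push Not at hall
    haveI := hU.isSimpleGroup hK
    let J : Subgroup U := Subgroup.closure {x : U | x * x = 1}
    haveI : J.Normal := ⟨fun x hx c => by
      have hle : J ≤ J.comap (MulAut.conj c).toMonoidHom := (Subgroup.closure_le _).2 fun y (hy : y * y = 1) =>
        Subgroup.subset_closure (show MulAut.conj c y * MulAut.conj c y = 1 by rw [← map_mul, hy, map_one])
      simpa using hle hx⟩
    have hJ : J = ⊤ := by
      refine (Subgroup.Normal.eq_bot_or_eq_top inferInstance).resolve_left fun h0 => hb1 ?_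
      have : (⟨b, hb.1⟩ : U) ∈ J := Subgroup.subset_closure (Subtype.ext hb2)
      rw [h0, Subgroup.mem_bot] at this
      exact congrArg Subtype.val this
    refine fixPart_ne_self S hK hnc hU hv (le_antisymm inf_le_left fun u hu => ?_)
    have hle : J ≤ (fixPart U v).subgroupOf U := (Subgroup.closure_le _).2 fun x (hx : x * x = 1) =>
      Subgroup.mem_subgroupOf.2 (by_contra fun hn => hall x x.2 hn (congrArg Subtype.val hx))
    exact hle (show (⟨u, hu⟩ : U) ∈ J by rw [hJ]; trivial)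
  -- the vector `x`
  set gv : V := (g : H) • v with hgv
  set hv' : V := h • v with hhv
  have gU : ∀ u ∈ fixPart U v, u • gv = gv := fun u hu => by
    rw [hgv, ← mul_smul, ← hcomm _ g.2 u hu.1, mul_smul, hfix hu]
  have hgv1 : gv ≠ 1 := fun e => hv ((MulAction.injective (g : H)) (e.trans (smul_one _).symm))
  set x : V := gv * hv' with hx
  have hx1 : x ≠ 1 := by
    intro hx0
    refine hY h hh hhR gv hgv1 gU fun u hu => ?_
    rw [eq_inv_of_mul_eq_one_left hx0, smul_inv', hhv, ← mul_smul, inv_mul_cancel_right, mul_smul, hfix hu]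
  have key : ∀ s ∈ fixPart T x, s • gv = gv := by
    intro s hs
    by_contra hne'
    have hsx : s • gv * (s • hv') = gv * hv' := by
      rw [← smul_mul']; exact MulAction.mem_stabilizer_iff.1 hs.2
    refine hY h hh hhR ((s • gv) / gv) (by rwa [ne_eq, div_eq_one]) (fun u hu => ?_) fun u hu => ?_
    · rw [smul_div', gU u hu, ← mul_smul, ← hcomm s hs.1 u hu.1, mul_smul, gU u hu]
    · have e : (s • gv) / gv = hv' / (s • hv') := by
        rw [div_eq_div_iff_mul_eq_mul, hsx, mul_comm]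
      have hc : h * u * h⁻¹ ∈ U := U.mul_mem (U.mul_mem hh hu.1) (U.inv_mem hh)
      have hu' : (h * u * h⁻¹) • hv' = hv' := by
        rw [hhv, ← mul_smul, inv_mul_cancel_right, mul_smul, hfix hu]
      rw [e, smul_div', hu', ← mul_smul, ← hcomm s hs.1 _ hc, mul_smul, hu']
  have keyT : ∀ s ∈ fixPart T x, s • hv' = hv' := fun s hs => by
    have h1 := MulAction.mem_stabilizer_iff.1 hs.2
    rw [hx, smul_mul', key s hs] at h1
    exact mul_left_cancel h1
  have hdx : (d : H) ∈ fixPart T x := by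
    refine ⟨d.2, MulAction.mem_stabilizer_iff.2 ?_⟩
    rw [hx, smul_mul', hgv, hhv, ← mul_smul (d : H) h, hcomm _ d.2 h hh, mul_smul h (d : H), hfix hd]
    congr 1
    have e : (d : H) * g = g * ((g : H)⁻¹ * d * g) := by group
    rw [← mul_smul, e, mul_smul, hfix (show (g : H)⁻¹ * d * g ∈ fixPart T v from hdg)]
  have hxT : fixPart T x ≠ ⊥ := fun h0 => hd1 (Subtype.ext (Subgroup.mem_bot.1 (h0 ▸ hdx)))
  have hxU := (fixPart_card S hK hnc hT hU hx1).2.1 hxT
  -- the symmetric statement for `U`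
  have hY' : ∀ z : V, z ≠ 1 → (∀ u ∈ fixPart T v, u • z = z) →
      (∀ u ∈ fixPart T v, ((g : H) * u * (g : H)⁻¹) • z = z) → False := by
    intro z hz hz1 hz2
    have hle : fixPart T v ≤ fixPart T z := fun u hu => ⟨hu.1, MulAction.mem_stabilizer_iff.2 (hz1 u hu)⟩
    have hzg : z ∈ good := Finset.mem_filter.2 ⟨Finset.mem_univ _, hz, a, hle ha, ha1, ha2⟩
    have heq := Subgroup.eq_of_le_of_card_ge hle (hvmax z hzg)
    refine hgR (fixPart_selfNormalising S hK hnc hT hv (fun h0 => ha1 ?_) g.2 fun u hu => ?_)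
    · rw [h0] at ha; exact Subgroup.mem_bot.1 ha
    · rw [heq]
      exact ⟨T.mul_mem (T.mul_mem g.2 hu.1) (T.inv_mem g.2), MulAction.mem_stabilizer_iff.2 (hz2 u hu)⟩
  have hT' : ∀ u ∈ fixPart T v, u • hv' = hv' := fun u hu => by
    rw [hhv, ← mul_smul, hcomm u hu.1 h hh, mul_smul, hfix hu]
  have keyU : ∀ s ∈ fixPart U x, s • hv' = hv' := by
    intro s hs
    by_contra hne'
    have hsx : s • gv * (s • hv') = gv * hv' := by
      rw [← smul_mul']; exact MulAction.mem_stabilizer_iff.1 hs.2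
    refine hY' ((s • hv') / hv') (by rwa [ne_eq, div_eq_one]) (fun u hu => ?_) fun u hu => ?_
    · rw [smul_div', hT' u hu, ← mul_smul, hcomm u hu.1 s hs.1, mul_smul, hT' u hu]
    · have e : (s • hv') / hv' = gv / (s • gv) := by
        rw [div_eq_div_iff_mul_eq_mul, mul_comm, hsx]
      have hc : (g : H) * u * (g : H)⁻¹ ∈ T := T.mul_mem (T.mul_mem g.2 hu.1) (T.inv_mem g.2)
      have hu' : ((g : H) * u * (g : H)⁻¹) • gv = gv := by
        rw [hgv, ← mul_smul, inv_mul_cancel_right, mul_smul, hfix hu]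
      rw [e, smul_div', hu', ← mul_smul, hcomm _ hc s hs.1, mul_smul, hu']
  have hDU : ∀ s, s ∈ fixPart U x ↔ s ∈ fixPart U v ∧ h⁻¹ * s * h ∈ fixPart U v := by
    intro s
    constructor
    · intro hs
      have h1 := keyU s hs
      have h2 : s • gv = gv := by
        have h3 := MulAction.mem_stabilizer_iff.1 hs.2
        rw [hx, smul_mul', h1] at h3
        exact mul_right_cancel h3
      refine ⟨⟨hs.1, MulAction.mem_stabilizer_iff.2 ?_⟩,
        ⟨U.mul_mem (U.mul_mem (U.inv_mem hh) hs.1) hh, MulAction.mem_stabilizer_iff.2 ?_⟩⟩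
      · rw [hgv, ← mul_smul, ← hcomm _ g.2 s hs.1, mul_smul] at h2
        exact MulAction.injective (g : H) h2
      · apply MulAction.injective h
        show h • ((h⁻¹ * s * h) • v) = h • v
        rw [← mul_smul, ← mul_assoc, ← mul_assoc, mul_inv_cancel, one_mul, mul_smul]
        exact h1
    · rintro ⟨hs, hs'⟩
      refine ⟨hs.1, MulAction.mem_stabilizer_iff.2 ?_⟩
      rw [hx, smul_mul', gU s hs, hhv]
      congr 1
      have e : s * h = h * (h⁻¹ * s * h) := by group
      rw [← mul_smul, e, mul_smul, hfix hs']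
  have hinv : h⁻¹ = h := inv_eq_of_mul_eq_one_right hh2
  refine hhR (((hDU h).1 (fixPart_selfNormalising S hK hnc hU hx1 hxU hh fun s hs => ?_))).1
  obtain ⟨h1, h2⟩ := (hDU s).1 hs
  refine (hDU _).2 ⟨by rw [hinv] at h2 ⊢; exact h2, ?_⟩
  have e : h⁻¹ * (h * s * h⁻¹) * h = s := by group
  rw [e]
  exact h1

/-- An insoluble group in this setting is almost simple. -/
theorem almost_simple (S : Setting H V) (hns : ¬ Group.IsSolvable H) {v₀ : V} (hv₀ : v₀ ≠ 1) :
    ∃ T : Subgroup H, T.Normal ∧ IsSimpleGroup T ∧ ¬ IsMulCommutative T ∧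
      Subgroup.centralizer (T : Set H) = ⊥ := by
  haveI : Nontrivial H := by
    by_contra h
    haveI := not_nontrivial_iff_subsingleton.1 h
    exact hns (Group.isSolvable_of_comm fun a b => Subsingleton.elim _ _)
  obtain ⟨K, hK, -⟩ := exists_isMinNormal_le (⊤ : Subgroup H) top_ne_bot
  haveI := hK.normal
  have hnc : ¬ IsMulCommutative K := fun h => hK.ne_bot (by
    haveI := h
    exact eq_bot_of_comm S hns hv₀ K)
  obtain ⟨T, hT⟩ := exists_isFactor hK
  obtain rfl := factor_eq S hK hnc hT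
  haveI := hT.isSimpleGroup hK
  refine ⟨T, hK.normal, inferInstance, hnc, ?_⟩
  by_contra hC
  obtain ⟨a, ha1, ha2⟩ := exists_involution hnc
  obtain ⟨z, hz, haz⟩ := S.fixed (a : H) (congrArg Subtype.val ha2)
  have hmem : (a : H) ∈ T ⊓ MulAction.stabilizer H z := ⟨a.2, MulAction.mem_stabilizer_iff.2 haz⟩
  rw [inf_eq_bot (B := Subgroup.centralizer (T : Set H)) S hC
    (fun b hb k hk => (Subgroup.mem_centralizer_iff.1 hb k hk).symm) hz, Subgroup.mem_bot] at hmem
  exact ha1 (Subtype.ext hmem)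

end CfsgLib.ExtremelyPrimitive57
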